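import Mathlib

/-!
# Farkas' lemma over an ordered field and greedy bases
-/

set_option autoImplicit false

open Finset

namespace Groth.Agent.Config36

/-- Farkas' lemma for finitely many generators -/
theorem farkas {F : Type*} [Field F] [LinearOrder F] [IsStrictOrderedRing F] {α : Type*}
    [DecidableEq α] (s : Finset α) :
    ∀ {W : Type*} [AddCommGroup W] [Module F W] (v : α → W) (b : W),
      (¬ ∃ c : α → F, (∀ i ∈ s, 0 ≤ c i) ∧ ∑ i ∈ s, c i • v i = b) →
      ∃ y : W →ₗ[F] F, (∀ i ∈ s, 0 ≤ y (v i)) ∧ y b < 0 := by
  induction s using Finset.induction with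
  | empty =>
    intro W _ _ v b hb
    have hb0 : b ≠ 0 := fun h => hb ⟨fun _ => 0, by simp, by simp [h]⟩
    obtain ⟨y, hy⟩ := Module.Projective.exists_dual_ne_zero F hb0
    refine ⟨-(y b) • y, by simp, ?_⟩
    simp only [LinearMap.smul_apply, smul_eq_mul, neg_mul, neg_lt_zero]
    exact mul_self_pos.2 hy
  | insert a s ha ih =>
    intro W _ _ v b hb
    have hb' : ¬ ∃ c : α → F, (∀ i ∈ s, 0 ≤ c i) ∧ ∑ i ∈ s, c i • v i = b := by
      rintro ⟨c, hc, hsum⟩
      refine hb ⟨Function.update c a 0, fun i hi => ?_, ?_⟩
      · rcases eq_or_ne i a with rfl | hne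
        · simp
        · rw [Function.update_of_ne hne]
          exact hc i ((Finset.mem_insert.1 hi).resolve_left hne)
      · rw [Finset.sum_insert ha, Function.update_self, zero_smul, zero_add, ← hsum]
        exact Finset.sum_congr rfl fun i hi => by rw [Function.update_of_ne (fun h : i = a => ha (h ▸ hi))]
    obtain ⟨y, hy, hyb⟩ := ih v b hb'
    by_cases hya : 0 ≤ y (v a)
    · exact ⟨y, Finset.forall_mem_insert _ _ _ |>.2 ⟨hya, hy⟩, hyb⟩
    push Not at hya
    let π : W →ₗ[F] W := LinearMap.id - (y.smulRight ((y (v a))⁻¹ • v a))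
    have hπ : ∀ x, π x = x - (y x / y (v a)) • v a := fun x => by
      simp [π, smul_smul, div_eq_mul_inv]
    have hπb : ¬ ∃ c : α → F, (∀ i ∈ s, 0 ≤ c i) ∧ ∑ i ∈ s, c i • π (v i) = π b := by
      rintro ⟨c, hc, hsum⟩
      set μ := (y b - ∑ i ∈ s, c i * y (v i)) / y (v a) with hμ
      refine hb ⟨Function.update c a μ, fun i hi => ?_, ?_⟩
      · rcases eq_or_ne i a with rfl | hne
        · rw [Function.update_self]
          refine div_nonneg_of_nonpos ?_ hya.le
          have : 0 ≤ ∑ i ∈ s, c i * y (v i) :=
            Finset.sum_nonneg fun i hi => mul_nonneg (hc i hi) (hy i hi)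
          linarith
        · rw [Function.update_of_ne hne]
          exact hc i ((Finset.mem_insert.1 hi).resolve_left hne)
      · rw [Finset.sum_insert ha, Function.update_self,
          Finset.sum_congr rfl (fun i hi => by rw [Function.update_of_ne (fun h : i = a => ha (h ▸ hi))] :
            ∀ i ∈ s, Function.update c a μ i • v i = c i • v i)]
        simp only [hπ, smul_sub, Finset.sum_sub_distrib, smul_smul, ← Finset.sum_smul] at hsum
        rw [sub_eq_iff_eq_add] at hsum
        rw [hsum, hμ, sub_div, sub_smul, Finset.sum_div]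
        simp only [mul_div_assoc]
        abel
    obtain ⟨z, hz, hzb⟩ := ih (fun i => π (v i)) (π b) hπb
    refine ⟨z.comp π, Finset.forall_mem_insert _ _ _ |>.2 ⟨?_, hz⟩, hzb⟩
    rw [LinearMap.comp_apply, hπ, div_self hya.ne, one_smul, sub_self, map_zero]

/-- layer-cake inequality -/
theorem sum_mul_sub_nonneg {α : Type*} {F : Type*} [Field F] [LinearOrder F] [IsStrictOrderedRing F]
    (g y : α → F) :
    ∀ (n : ℕ) (s : Finset α), s.card ≤ n → (∀ t : F, ∑ j ∈ s.filter (fun j => y j ≤ t), g j ≤ 0) →
      ∀ c : F, (∀ j ∈ s, y j ≤ c) → 0 ≤ ∑ j ∈ s, g j * (y j - c) := by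
  classical
  intro n
  induction n with
  | zero =>
    intro s hs _ c _
    rw [Finset.card_eq_zero.1 (Nat.le_zero.1 hs)]
    simp
  | succ n ih =>
    intro s hs hg c hc
    rcases s.eq_empty_or_nonempty with rfl | hne
    · simp
    obtain ⟨a, ha, hmax⟩ := s.exists_max_image y hne
    have hsum : ∑ j ∈ s, g j ≤ 0 := by
      have := hg (y a)
      rwa [Finset.filter_eq_self.2 hmax] at this
    have h1 : ∑ j ∈ s, g j * (y j - c) = (∑ j ∈ s, g j * (y j - y a)) + (y a - c) * ∑ j ∈ s, g j := by
      rw [Finset.mul_sum, ← Finset.sum_add_distrib]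
      exact Finset.sum_congr rfl fun j _ => by ring
    have h2 : ∑ j ∈ s, g j * (y j - y a) = ∑ j ∈ s.filter (fun j => y j < y a), g j * (y j - y a) := by
      symm
      refine Finset.sum_filter_of_ne fun j hj h => lt_of_le_of_ne (hmax j hj) fun he => h ?_
      rw [he, sub_self, mul_zero]
    have h3 : 0 ≤ ∑ j ∈ s.filter (fun j => y j < y a), g j * (y j - y a) := by
      refine ih _ ?_ (fun t => ?_) (y a) fun j hj => (Finset.mem_filter.1 hj).2.le
      · have : (s.filter (fun j => y j < y a)).card < s.card :=
          Finset.card_lt_card (Finset.filter_ssubset.2 ⟨a, ha, lt_irrefl _⟩)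
        omega
      · rcases lt_or_ge t (y a) with ht | ht
        · rw [Finset.filter_filter,
            Finset.filter_congr (q := fun j => y j ≤ t) fun j _ => ⟨fun h => h.2, fun h => ⟨lt_of_le_of_lt h ht, h⟩⟩]
          exact hg t
        · rcases (s.filter (fun j => y j < y a)).eq_empty_or_nonempty with he | hne'
          · simp [he]
          · obtain ⟨a', ha', hmax'⟩ := (s.filter (fun j => y j < y a)).exists_max_image y hne'
            rw [Finset.filter_eq_self.2 fun j hj => ((Finset.mem_filter.1 hj).2.le.trans ht)]
            have := hg (y a')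
            convert this using 2
            ext j
            simp only [Finset.mem_filter]
            exact ⟨fun h => ⟨h.1, hmax' j (Finset.mem_filter.2 h)⟩,
              fun h => ⟨h.1, lt_of_le_of_lt h.2 (Finset.mem_filter.1 ha').2⟩⟩
    rw [h1, h2]
    have : 0 ≤ (y a - c) * ∑ j ∈ s, g j :=
      mul_nonneg_of_nonpos_of_nonpos (sub_nonpos.2 (hc a ha)) hsum
    linarith

/-- a greedy basis for an ordering of a finite family -/
theorem exists_greedy {K : Type*} [Field K] {V : Type*} [AddCommGroup V] [Module K V] {α : Type*}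
    [DecidableEq α] {F : Type*} [LinearOrder F] (x : α → V) (y : α → F) (s : Finset α) :
    ∃ S ⊆ s, LinearIndepOn K x (S : Set α) ∧
      ∀ t : F, Submodule.span K (x '' ↑(s.filter fun j => y j ≤ t))
        = Submodule.span K (x '' ↑(S.filter fun j => y j ≤ t)) := by
  classical
  induction s using Finset.induction_on_max_value y with
  | empty => exact ⟨∅, Finset.Subset.refl _, by simp, fun t => by simp⟩
  | insert a s ha hmax ih =>
    obtain ⟨S, hS, hind, hspan⟩ := ih
    have hfull : ∀ t, y a ≤ t → Submodule.span K (x '' ↑s) = Submodule.span K (x '' ↑S) := by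
      intro t ht
      have := hspan t
      rwa [Finset.filter_eq_self.2 fun j hj => (hmax j hj).trans ht,
        Finset.filter_eq_self.2 fun j hj => (hmax j (hS hj)).trans ht] at this
    by_cases hmem : x a ∈ Submodule.span K (x '' ↑S)
    · refine ⟨S, hS.trans (Finset.subset_insert _ _), hind, fun t => ?_⟩
      rw [Finset.filter_insert]
      split_ifs with ht
      · rw [Finset.coe_insert, Set.image_insert_eq, Submodule.span_insert, ← hspan t, sup_eq_right,
          Submodule.span_singleton_le_iff_mem, Finset.filter_eq_self.2 fun j hj => (hmax j hj).trans ht,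
          hfull t ht]
        exact hmem
      · exact hspan t
    · refine ⟨insert a S, Finset.insert_subset_insert _ hS, ?_, fun t => ?_⟩
      · rw [Finset.coe_insert]; exact hind.insert hmem
      · rw [Finset.filter_insert, Finset.filter_insert]
        split_ifs with ht
        · rw [Finset.coe_insert, Set.image_insert_eq, Submodule.span_insert, Finset.coe_insert,
            Set.image_insert_eq, Submodule.span_insert, hspan t]
        · exact hspan t

end Groth.Agent.Config36
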