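import Groth.Agent.Config36.Farkas

/-!
# Stable configurations of points and monomials in determinant sections
-/

set_option autoImplicit false

open Finset

namespace Groth.Agent.Config36

universe u

variable (K : Type u) [Field K] {V : Type u} [AddCommGroup V] [Module K V] [FiniteDimensional K V]
  {α : Type} [Fintype α] [DecidableEq α] (x : α → V)

/-- the supports of the non-vanishing determinant sections -/
def IsSec (S : Finset α) : Prop :=
  S.card = Module.finrank K V ∧ LinearIndependent K (fun j : S => x j)

/-- the stability condition -/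
def IsStableConf : Prop :=
  ∀ L : Submodule K V, L ≠ ⊥ → L ≠ ⊤ →
    Set.ncard {i : α | x i ∈ L} * Module.finrank K V < Module.finrank K L * Fintype.card α

theorem card_filter_le {S : Finset α} (hS : LinearIndependent K (fun j : S => x j))
    (L : Submodule K V) [DecidablePred fun j => x j ∈ L] :
    (S.filter fun j => x j ∈ L).card ≤ Module.finrank K L := by
  set T := S.filter fun j => x j ∈ L
  have h2 : LinearIndependent K (fun j : T => (⟨x j.1, (Finset.mem_filter.1 j.2).2⟩ : L)) := by
    refine LinearIndependent.of_comp L.subtype ?_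
    exact hS.comp (fun j : T => ⟨j.1, (Finset.mem_filter.1 j.2).1⟩) (fun a b h => by
      apply Subtype.ext
      simpa using congrArg Subtype.val h)
  simpa using h2.fintype_card_le_finrank

theorem span_eq_top [Nonempty α] (hx : ∀ i, x i ≠ 0) (hst : IsStableConf K x) :
    Submodule.span K (Set.range x) = ⊤ := by
  by_contra h
  obtain ⟨i⟩ := ‹Nonempty α›
  have hne : Submodule.span K (Set.range x) ≠ ⊥ := fun h0 => hx i
    (by
      have h2 : x i ∈ Submodule.span K (Set.range x) := Submodule.subset_span (Set.mem_range_self i)
      rw [h0] at h2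
      exact (Submodule.mem_bot K).1 h2)
  have h1 := hst _ hne h
  have h2 : Set.ncard {j : α | x j ∈ Submodule.span K (Set.range x)} = Fintype.card α := by
    rw [Set.eq_univ_of_forall (s := {j : α | x j ∈ Submodule.span K (Set.range x)})
      fun j => Submodule.subset_span (Set.mem_range_self j), Set.ncard_univ, Nat.card_eq_fintype_card]
  rw [h2, mul_comm] at h1
  have h3 : Module.finrank K (Submodule.span K (Set.range x)) ≤ Module.finrank K V := Submodule.finrank_le _
  exact absurd (lt_of_mul_lt_mul_right h1 (Nat.zero_le _)) (not_lt.2 h3)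

theorem exists_cone [Nonempty α] (hx : ∀ i, x i ≠ 0) (hst : IsStableConf K x) (i : α) :
    ∃ c : Finset α → ℚ, (∀ S, 0 ≤ c S) ∧ (∀ S, c S ≠ 0 → IsSec K x S) ∧
      ∀ j, ∑ S, (if j ∈ S then c S else 0) = 2 * (Module.finrank K V : ℚ) - if j = i then 1 else 0 := by
  classical
  set r := Module.finrank K V with hr
  let secs : Finset (Finset α) := univ.filter (IsSec K x)
  let v : Finset α → α → ℚ := fun S j => if j ∈ S then 1 else 0
  let b : α → ℚ := fun j => 2 * (r : ℚ) - if j = i then 1 else 0
  suffices ∃ c : Finset α → ℚ, (∀ S ∈ secs, 0 ≤ c S) ∧ ∑ S ∈ secs, c S • v S = b by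
    obtain ⟨c, hc, hsum⟩ := this
    refine ⟨fun S => if S ∈ secs then c S else 0, fun S => ?_, fun S hS => ?_, fun j => ?_⟩
    · beta_reduce
      split_ifs with h
      · exact hc S h
      · rfl
    · by_contra h
      exact hS (if_neg (by simpa [secs] using h))
    · have := congrFun hsum j
      rw [Finset.sum_apply] at this
      simp only [b] at this
      rw [← this, ← Finset.sum_subset (Finset.subset_univ secs)]
      · refine Finset.sum_congr rfl fun S hS => ?_
        simp [v, hS]
      · intro S _ hS
        simp [hS]
  by_contra hno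
  obtain ⟨y, hy, hyb⟩ := farkas secs v b hno
  let Y : α → ℚ := fun j => y (fun l => if l = j then 1 else 0)
  have hY : ∀ f : α → ℚ, y f = ∑ j, f j * Y j := by
    intro f
    conv_lhs => rw [show f = ∑ j, f j • (fun l => if l = j then (1 : ℚ) else 0) from by
      funext l; simp [Finset.sum_apply]]
    rw [map_sum]
    simp [Y]
  obtain ⟨S, -, hind, hspan⟩ := exists_greedy (K := K) x Y (univ : Finset α)
  have hind' : LinearIndependent K (fun j : S => x j) := hind
  have hrange : ∀ T : Finset α, LinearIndepOn K x (T : Set α) →
      Module.finrank K (Submodule.span K (x '' ↑T)) = T.card := by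
    intro T hT
    have h1 : LinearIndependent K (fun j : T => x j) := hT
    have h2 := finrank_span_eq_card h1
    rw [Fintype.card_coe] at h2
    rw [← h2, Set.image_eq_range]
    rfl
  have hcard : S.card = r := by
    obtain ⟨a, -, ha⟩ := (univ : Finset α).exists_max_image Y univ_nonempty
    have h1 := hspan (Y a)
    rw [Finset.filter_eq_self.2 fun j hj => ha j hj, Finset.filter_eq_self.2 fun j _ => ha j (mem_univ j),
      Finset.coe_univ, Set.image_univ, span_eq_top K x hx hst] at h1
    rw [← hrange S hind, ← h1, finrank_top]
  have hr0 : 0 < r := by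
    haveI : Nontrivial V := nontrivial_of_ne _ _ (hx i)
    exact Module.finrank_pos
  have hsec : S ∈ secs := by simp only [secs, mem_filter, mem_univ, true_and]; exact ⟨hcard, hind'⟩
  have hyS : 0 ≤ ∑ j, v S j * Y j := by rw [← hY]; exact hy S hsec
  rw [hY] at hyb
  set tot : ℚ := 2 * r * Fintype.card α - 1 with htot
  have htot' : ∑ j, b j = tot := by
    simp [b, htot, Finset.sum_sub_distrib]
    ring
  have hb0 : ∀ j, 0 ≤ b j := by
    intro j
    have : (1 : ℚ) ≤ r := by exact_mod_cast hr0
    simp only [b]
    split_ifs <;> linarith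
  have htot0 : 0 ≤ tot := htot' ▸ Finset.sum_nonneg fun j _ => hb0 j
  let g : α → ℚ := fun j => b j - tot / r * v S j
  have hrQ : (0 : ℚ) < r := by exact_mod_cast hr0
  have hg0 : ∑ j, g j = 0 := by
    simp only [g, Finset.sum_sub_distrib, ← Finset.mul_sum, htot', v, Finset.sum_boole,
      Finset.filter_univ_mem, hcard]
    field_simp
    ring
  have hg : ∀ t : ℚ, ∑ j ∈ univ.filter (fun j => Y j ≤ t), g j ≤ 0 := by
    intro t
    set T := univ.filter (fun j => Y j ≤ t) with hT
    set L := Submodule.span K (x '' ↑T) with hL
    have hl : ∑ j ∈ T, v S j = (Module.finrank K L : ℚ) := by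
      rw [hL, hT, hspan t, hrange _ (hind.mono (Finset.coe_subset.2 (Finset.filter_subset _ _)))]
      simp only [v, Finset.sum_boole, Nat.cast_inj]
      congr 1
      ext j
      simp [and_comm]
    simp only [g, Finset.sum_sub_distrib, ← Finset.mul_sum, hl]
    rw [sub_nonpos]
    rcases T.eq_empty_or_nonempty with he | ⟨j0, hj0⟩
    · rw [he, Finset.sum_empty]
      positivity
    have hbot : L ≠ ⊥ := fun h => hx j0
      (by
        have h2 : x j0 ∈ L := Submodule.subset_span (Set.mem_image_of_mem x (Finset.mem_coe.2 hj0))
        rw [h] at h2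
        exact (Submodule.mem_bot K).1 h2)
    by_cases htop : L = ⊤
    · rw [htop, finrank_top, div_mul_cancel₀ _ hrQ.ne', ← htot']
      exact Finset.sum_le_univ_sum_of_nonneg hb0
    · have h1 := hst L hbot htop
      have h2 : T.card ≤ Set.ncard {j : α | x j ∈ L} := by
        rw [← Set.ncard_coe_finset]
        exact Set.ncard_le_ncard (fun j hj => Submodule.subset_span (Set.mem_image_of_mem x hj))
          (Set.toFinite _)
      have h3 : (T.card : ℚ) * r + 1 ≤ (Module.finrank K L : ℚ) * Fintype.card α := by
        have : T.card * r + 1 ≤ Module.finrank K L * Fintype.card α :=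
          Nat.succ_le_of_lt (lt_of_le_of_lt (Nat.mul_le_mul_right r h2) h1)
        exact_mod_cast this
      have h4 : ∑ j ∈ T, b j ≤ 2 * r * T.card := by
        refine (Finset.sum_le_sum (g := fun _ => 2 * (r : ℚ)) fun j _ => ?_).trans ?_
        · simp only [b]; split_ifs <;> linarith
        · simp [mul_comm]
      have h5 : (Module.finrank K L : ℚ) ≤ r := by exact_mod_cast Submodule.finrank_le L
      refine h4.trans ?_
      rw [div_mul_eq_mul_div, le_div_iff₀ hrQ, htot]
      nlinarith
  obtain ⟨a, -, ha⟩ := (univ : Finset α).exists_max_image Y univ_nonempty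
  have h := sum_mul_sub_nonneg g Y _ univ le_rfl hg (Y a) fun j hj => ha j hj
  simp only [mul_sub, Finset.sum_sub_distrib, ← Finset.sum_mul, hg0, zero_mul, sub_zero] at h
  simp only [g, sub_mul, Finset.sum_sub_distrib, mul_assoc, ← Finset.mul_sum] at h
  have : 0 ≤ tot / r * ∑ j, v S j * Y j := mul_nonneg (div_nonneg htot0 hrQ.le) hyS
  linarith

theorem stable_iff [Nonempty α] (hx : ∀ i, x i ≠ 0) :
    IsStableConf K x ↔
      ∃ N N₀ : ℕ, 0 < N₀ ∧ N₀ ≤ N ∧
        ∀ i : α, ∃ P : Multiset (Finset α), P ≠ 0 ∧ (∀ S ∈ P, IsSec K x S) ∧
          ∀ j : α, Multiset.card (P.filter (fun S => j ∈ S)) = if j = i then N - N₀ else N := by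
  classical
  set r := Module.finrank K V with hr
  have hr0 : 0 < r := by
    haveI : Nontrivial V := nontrivial_of_ne _ _ (hx (Classical.arbitrary α))
    exact Module.finrank_pos
  constructor
  · intro hst
    choose c hc0 hcs hcsum using exists_cone K x hx hst
    set D : ℕ := ∏ p : α × Finset α, (c p.1 p.2).den
    have hD : 0 < D := Finset.prod_pos fun p _ => (c p.1 p.2).den_pos
    have hn : ∀ i S, ∃ n : ℕ, (n : ℚ) = c i S * D := by
      intro i S
      obtain ⟨e, he⟩ : (c i S).den ∣ D := Finset.dvd_prod_of_mem (fun p : α × Finset α => (c p.1 p.2).den) (mem_univ (i, S))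
      refine ⟨(c i S).num.toNat * e, ?_⟩
      have hnum : 0 ≤ (c i S).num := Rat.num_nonneg.2 (hc0 i S)
      have : (((c i S).num.toNat : ℕ) : ℚ) = ((c i S).num : ℚ) := by
        exact_mod_cast Int.toNat_of_nonneg hnum
      rw [Nat.cast_mul, this, he, Nat.cast_mul, ← mul_assoc, Rat.mul_den_eq_num]
    choose n hn using hn
    refine ⟨2 * r * D, D, hD, Nat.le_mul_of_pos_left D (by omega), fun i => ?_⟩
    refine ⟨∑ S, Multiset.replicate (n i S) S, ?_, ?_, ?_⟩
    · intro h
      have hzero : ∀ S, n i S = 0 := fun S => by
        have := congrArg (Multiset.count S) h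
        simpa [Multiset.count_sum', Multiset.count_replicate] using this
      have h2 := hcsum i i
      rw [if_pos rfl, Finset.sum_eq_zero] at h2
      · have : (1 : ℚ) ≤ r := by exact_mod_cast hr0
        linarith
      · intro S _
        have h3 := hn i S
        rw [hzero S, Nat.cast_zero, eq_comm, mul_eq_zero] at h3
        have h4 : c i S = 0 := h3.resolve_right (by exact_mod_cast hD.ne')
        simp [h4]
    · intro S hS
      rw [Multiset.mem_sum] at hS
      obtain ⟨S', -, hS'⟩ := hS
      obtain ⟨hne, rfl⟩ := Multiset.mem_replicate.1 hS'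
      refine hcs i S fun h0 => hne ?_
      have h3 := hn i S
      rw [h0, zero_mul] at h3
      exact_mod_cast h3
    · intro j
      have h1 : (Multiset.card ((∑ S, Multiset.replicate (n i S) S).filter (fun S => j ∈ S)) : ℚ)
          = ∑ S, if j ∈ S then (n i S : ℚ) else 0 := by
        rw [← Multiset.countP_eq_card_filter, ← Multiset.coe_countPAddMonoidHom, map_sum, Nat.cast_sum]
        refine Finset.sum_congr rfl fun S _ => ?_
        rw [Multiset.coe_countPAddMonoidHom, Multiset.countP_eq_card_filter]
        split_ifs with h
        · rw [Multiset.filter_eq_self.2 fun S' hS' => (Multiset.mem_replicate.1 hS').2 ▸ h,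
            Multiset.card_replicate]
        · rw [Multiset.filter_eq_nil.2 fun S' hS' => (Multiset.mem_replicate.1 hS').2 ▸ h,
            Multiset.card_zero, Nat.cast_zero]
      have h2 : (∑ S, if j ∈ S then (n i S : ℚ) else 0) = (∑ S, if j ∈ S then c i S else 0) * D := by
        rw [Finset.sum_mul]
        refine Finset.sum_congr rfl fun S _ => ?_
        split_ifs
        · exact hn i S
        · rw [zero_mul]
      rw [h2, hcsum] at h1
      have hDle : D ≤ 2 * r * D := Nat.le_mul_of_pos_left D (by omega)
      have : (Multiset.card ((∑ S, Multiset.replicate (n i S) S).filter (fun S => j ∈ S)) : ℚ)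
          = ((if j = i then 2 * r * D - D else 2 * r * D : ℕ) : ℚ) := by
        rw [h1]
        split_ifs
        · rw [Nat.cast_sub hDle]; push_cast; ring
        · push_cast; ring
      exact_mod_cast this
  · rintro ⟨N, N₀, hN₀, hle, h⟩ L hbot htop
    obtain ⟨i, hi⟩ : ∃ i, x i ∉ L := by
      by_contra hall
      push Not at hall
      obtain ⟨P, hP, hsec, -⟩ := h (Classical.arbitrary α)
      obtain ⟨S, hS⟩ := Multiset.exists_mem_of_ne_zero hP
      have h1 := card_filter_le K x (hsec S hS).2 L
      rw [Finset.filter_eq_self.2 fun j _ => hall j, (hsec S hS).1] at h1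
      exact absurd (Submodule.finrank_lt htop) (not_lt.2 h1)
    obtain ⟨P, hP, hsec, hcnt⟩ := h i
    set C := univ.filter fun j => x j ∈ L with hC
    have hncard : Set.ncard {j : α | x j ∈ L} = C.card := by
      rw [hC, ← Set.ncard_coe_finset]
      congr 1
      ext j
      simp
    have key : ∀ T : Finset α, ∑ j ∈ T, Multiset.card (P.filter fun S => j ∈ S)
        = (P.map fun S => (T ∩ S).card).sum := by
      intro T
      clear hP hsec hcnt
      induction P using Multiset.induction with
      | empty => simp
      | cons S P ih =>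
        rw [Multiset.map_cons, Multiset.sum_cons]
        have : ∀ j, Multiset.card ((S ::ₘ P).filter fun S => j ∈ S)
            = (if j ∈ S then 1 else 0) + Multiset.card (P.filter fun S => j ∈ S) := by
          intro j
          split_ifs with hj
          · rw [Multiset.filter_cons_of_pos (p := fun S => j ∈ S) (s := P) hj, Multiset.card_cons, add_comm]
          · rw [Multiset.filter_cons_of_neg (p := fun S => j ∈ S) (s := P) hj, zero_add]
        simp only [this, Finset.sum_add_distrib]
        congr 1
        · rw [Finset.sum_boole, Finset.filter_mem_eq_inter]; rfl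

    have hC' : ∑ j ∈ C, Multiset.card (P.filter fun S => j ∈ S) = C.card * N := by
      rw [Finset.sum_congr rfl (fun j hj => by
        rw [hcnt j, if_neg]; rintro rfl; exact hi (Finset.mem_filter.1 hj).2 :
          ∀ j ∈ C, Multiset.card (P.filter fun S => j ∈ S) = N)]
      simp
    have hCle : C.card * N ≤ Multiset.card P * Module.finrank K L := by
      rw [← hC', key]
      refine (Multiset.sum_le_card_nsmul _ (Module.finrank K L) fun a ha => ?_).trans (by simp)
      obtain ⟨S, hS, rfl⟩ := Multiset.mem_map.1 ha
      refine le_trans (Finset.card_le_card fun j hj => ?_) (card_filter_le K x (hsec S hS).2 L)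
      simp only [hC, Finset.mem_inter, Finset.mem_filter] at hj ⊢
      exact ⟨hj.2, hj.1.2⟩
    have htotal : Multiset.card P * r + N₀ = Fintype.card α * N := by
      have h1 := key univ
      rw [Finset.sum_congr rfl fun j _ => hcnt j] at h1
      have h2 : (P.map fun S => (univ ∩ S).card).sum = Multiset.card P * r := by
        rw [Multiset.map_congr rfl fun S hS => by rw [Finset.univ_inter, (hsec S hS).1]]
        simp [hr]
      rw [h2] at h1
      rw [← h1]
      have : ∀ j, (if j = i then N - N₀ else N) + (if j = i then N₀ else 0) = N := by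
        intro j; split_ifs <;> omega
      have h3 := Finset.sum_congr (s₁ := (univ : Finset α)) rfl fun j _ => this j
      rw [Finset.sum_add_distrib] at h3
      simpa using h3
    rw [hncard]
    have hl : 0 < Module.finrank K L := by
      haveI : Nontrivial L := Submodule.nontrivial_iff_ne_bot.2 hbot
      exact Module.finrank_pos
    have h5 : C.card * r * N < Module.finrank K L * Fintype.card α * N := by
      calc C.card * r * N = C.card * N * r := by ring
        _ ≤ Multiset.card P * Module.finrank K L * r := Nat.mul_le_mul_right _ hCle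
        _ = Module.finrank K L * (Multiset.card P * r) := by ring
        _ < Module.finrank K L * (Fintype.card α * N) := by
          rw [← htotal]
          exact Nat.mul_lt_mul_of_pos_left (by omega) hl
        _ = _ := by ring
    exact lt_of_mul_lt_mul_right h5 (Nat.zero_le _)

end Groth.Agent.Config36
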